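import Groth.Agent.Grpd.SubQuot.Transport

/-! # The quotient groupoid by a subgroupoid -/

universe u

open CategoryTheory CategoryTheory.Limits AlgebraicGeometry

namespace Groth.Agent.SubQuot

variable {S : Scheme.{u}} {G : Grpd.GroupoidScheme S}

/-- Descended arrows. -/
structure Arrows (D : Sub G) where
  /-- the arrows -/
  W : Scheme.{u}
  /-- target and source -/
  g : W ⟶ pullback D.m D.m
  /-- the map -/
  π : G.R ⟶ W
  hpb : IsPullback π G.j g D.qq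
  hinv : ∀ ⦃T : Scheme.{u}⦄ {X Y : Pt G T} (f : X ⟶ Y) (X' Y' : Pt G T)
    (hX : X.x ≫ D.q = X'.x ≫ D.q) (hY : Y.x ≫ D.q = Y'.x ≫ D.q),
    (D.tr f X' Y' hX hY).r ≫ π = f.r ≫ π

variable {D : Sub G} (A : Arrows D)

/-- source -/
noncomputable def Arrows.s : A.W ⟶ D.M := A.g ≫ pullback.snd D.m D.m
/-- target -/
noncomputable def Arrows.t : A.W ⟶ D.M := A.g ≫ pullback.fst D.m D.m

@[reassoc]
lemma Arrows.π_s : A.π ≫ A.s = G.s ≫ D.q := by
  rw [Arrows.s, A.hpb.w_assoc, D.qq_snd, Grpd.GroupoidScheme.j, pullback.lift_snd_assoc]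

@[reassoc]
lemma Arrows.π_t : A.π ≫ A.t = G.t ≫ D.q := by
  rw [Arrows.t, A.hpb.w_assoc, D.qq_fst, Grpd.GroupoidScheme.j, pullback.lift_fst_assoc]

/-- arrows with the same image are transports of each other -/
lemma Arrows.eq_tr {T : Scheme.{u}} {X Y X' Y' : Pt G T} (f : X ⟶ Y) (f' : X' ⟶ Y')
    (h : f.r ≫ A.π = f'.r ≫ A.π) :
    ∃ (hX : X.x ≫ D.q = X'.x ≫ D.q) (hY : Y.x ≫ D.q = Y'.x ≫ D.q), f' = D.tr f X' Y' hX hY := by
  have hX : X.x ≫ D.q = X'.x ≫ D.q := by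
    rw [← f.hs, ← f'.hs, Category.assoc, Category.assoc, ← A.π_s, reassoc_of% h]
  have hY : Y.x ≫ D.q = Y'.x ≫ D.q := by
    rw [← f.ht, ← f'.ht, Category.assoc, Category.assoc, ← A.π_t, reassoc_of% h]
  refine ⟨hX, hY, hom_ext' (A.hpb.hom_ext ?_ ?_)⟩
  · rw [A.hinv, h]
  · apply pullback.hom_ext
    · rw [Category.assoc, Category.assoc, Grpd.GroupoidScheme.j, pullback.lift_fst, f'.ht,
        (D.tr f X' Y' hX hY).ht]
    · rw [Category.assoc, Category.assoc, Grpd.GroupoidScheme.j, pullback.lift_snd, f'.hs,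
        (D.tr f X' Y' hX hY).hs]

variable [Flat D.q] [Surjective D.q] [LocallyOfFinitePresentation D.q]

include A in
lemma Arrows.π_props : Flat A.π ∧ Surjective A.π ∧ LocallyOfFinitePresentation A.π := by
  have h1 : Flat D.qq := MorphismProperty.pullbackMap (P := @Flat) ‹_› ‹_› D.hm.symm D.hm.symm
  have h2 : Surjective D.qq :=
    MorphismProperty.pullbackMap (P := @Surjective) ‹_› ‹_› D.hm.symm D.hm.symm
  have h3 : LocallyOfFinitePresentation D.qq :=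
    MorphismProperty.pullbackMap (P := @LocallyOfFinitePresentation) ‹_› ‹_› D.hm.symm D.hm.symm
  exact ⟨MorphismProperty.of_isPullback A.hpb.flip h1, MorphismProperty.of_isPullback A.hpb.flip h2,
    MorphismProperty.of_isPullback A.hpb.flip h3⟩

/-- lifts exist after a cover -/
lemma Arrows.exists_lift {T : Scheme.{u}} (v : T ⟶ A.W) :
    ∃ (T' : Scheme.{u}) (f : T' ⟶ T) (_ : Epi f) (a : T' ⟶ G.R), a ≫ A.π = f ≫ v := by
  obtain ⟨_, _, _⟩ := A.π_props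
  exact ⟨_, pullback.snd A.π v, Flat.epi_of_flat_of_surjective _, pullback.fst A.π v, pullback.condition⟩

omit [Flat D.q] [Surjective D.q] [LocallyOfFinitePresentation D.q] in
/-- change the target of a lift -/
lemma Arrows.adjust {T : Scheme.{u}} (b : T ⟶ G.R) (z : T ⟶ G.U) (h : b ≫ G.t ≫ D.q = z ≫ D.q) :
    ∃ b' : T ⟶ G.R, b' ≫ A.π = b ≫ A.π ∧ b' ≫ G.t = z := by
  let f : (⟨b ≫ G.s⟩ : Pt G T) ⟶ ⟨b ≫ G.t⟩ := ⟨b, rfl, rfl⟩
  let f' := D.tr f ⟨b ≫ G.s⟩ ⟨z⟩ rfl ((Category.assoc _ _ _).trans h)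
  exact ⟨f'.r, A.hinv f _ _ _ _, f'.ht⟩

/-- composable pairs lift to composable pairs -/
lemma Arrows.exists_lift₂ {T : Scheme.{u}} (v w : T ⟶ A.W) (h : v ≫ A.s = w ≫ A.t) :
    ∃ (T' : Scheme.{u}) (f : T' ⟶ T) (_ : Epi f) (a b : T' ⟶ G.R),
      a ≫ A.π = f ≫ v ∧ b ≫ A.π = f ≫ w ∧ a ≫ G.s = b ≫ G.t := by
  obtain ⟨T₁, f₁, _, a, ha⟩ := A.exists_lift v
  obtain ⟨T₂, f₂, _, b, hb⟩ := A.exists_lift (f₁ ≫ w)
  obtain ⟨b', hb', hbt⟩ := A.adjust b (f₂ ≫ a ≫ G.s) (by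
    rw [← A.π_t, reassoc_of% hb, ← h, ← reassoc_of% ha, A.π_s]
    simp only [Category.assoc])
  exact ⟨T₂, f₂ ≫ f₁, inferInstance, f₂ ≫ a, b', by rw [Category.assoc, ha, Category.assoc],
    by rw [hb', hb, Category.assoc], by rw [Category.assoc, hbt]⟩

/-- composition on a cover of the composable pairs -/
noncomputable def Arrows.c₀ : pullback (G.s ≫ D.q) (G.t ≫ D.q) ⟶ A.W :=
  let α := pullback.fst (G.s ≫ D.q) (G.t ≫ D.q)
  let β := pullback.snd (G.s ≫ D.q) (G.t ≫ D.q)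
  let fb : (⟨β ≫ G.s⟩ : Pt G _) ⟶ ⟨β ≫ G.t⟩ := ⟨β, rfl, rfl⟩
  let fa : (⟨α ≫ G.s⟩ : Pt G _) ⟶ ⟨α ≫ G.t⟩ := ⟨α, rfl, rfl⟩
  (fb ≫ D.ρ _ _ (((Category.assoc _ _ _).trans pullback.condition.symm).trans
    (Category.assoc _ _ _).symm) ≫ fa).r ≫ A.π

omit [Flat D.q] [Surjective D.q] [LocallyOfFinitePresentation D.q] in
lemma Arrows.c₀_eq {T : Scheme.{u}} {X₀ X₁ Y₀ Y₁ : Pt G T} (fb : X₀ ⟶ X₁) (fa : Y₀ ⟶ Y₁)
    (h : X₁.x ≫ D.q = Y₀.x ≫ D.q) (h' : fa.r ≫ G.s ≫ D.q = fb.r ≫ G.t ≫ D.q) :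
    pullback.lift fa.r fb.r h' ≫ A.c₀ = (fb ≫ D.ρ X₁ Y₀ h ≫ fa).r ≫ A.π := by
  let k := pullback.lift fa.r fb.r h'
  have hα : k ≫ pullback.fst (G.s ≫ D.q) (G.t ≫ D.q) = fa.r := pullback.lift_fst _ _ _
  have hβ : k ≫ pullback.snd (G.s ≫ D.q) (G.t ≫ D.q) = fb.r := pullback.lift_snd _ _ _
  simp only [Arrows.c₀]
  rw [← Category.assoc]
  congr 1
  refine (congrArg Arr.r ((pull_comp k _ _).trans (congrArg (pull k _ ≫ ·) (pull_comp k _ _)))).trans ?_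
  refine comp_r_congr hβ (comp_r_congr ?_ hα)
  rw [D.pull_ρ]
  refine D.ρ_r_congr ?_ ?_
  · change k ≫ _ ≫ G.t = X₁.x
    rw [reassoc_of% hβ, fb.ht]
  · change k ≫ _ ≫ G.s = Y₀.x
    rw [reassoc_of% hα, fa.hs]

/-- composition -/
lemma Arrows.exists_c :
    ∃ c : pullback A.s A.t ⟶ A.W, ∀ ⦃T : Scheme.{u}⦄ (v w : T ⟶ A.W) (h : v ≫ A.s = w ≫ A.t)
      (a b : T ⟶ G.R) (hab : a ≫ G.s = b ≫ G.t), a ≫ A.π = v → b ≫ A.π = w →
      pullback.lift v w h ≫ c = (pullback.lift a b hab ≫ G.c) ≫ A.π := by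
  obtain ⟨_, _, _⟩ := A.π_props
  let cov : pullback (G.s ≫ D.q) (G.t ≫ D.q) ⟶ pullback A.s A.t :=
    pullback.map _ _ _ _ A.π A.π (𝟙 D.M) ((Category.comp_id _).trans A.π_s.symm)
      ((Category.comp_id _).trans A.π_t.symm)
  have hcf : ∀ {Z : Scheme.{u}} (k : Z ⟶ pullback (G.s ≫ D.q) (G.t ≫ D.q)),
      (k ≫ cov) ≫ pullback.fst A.s A.t = (k ≫ pullback.fst _ _) ≫ A.π := fun k => by
    rw [Category.assoc, pullback.lift_fst, Category.assoc]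
  have hcs : ∀ {Z : Scheme.{u}} (k : Z ⟶ pullback (G.s ≫ D.q) (G.t ≫ D.q)),
      (k ≫ cov) ≫ pullback.snd A.s A.t = (k ≫ pullback.snd _ _) ≫ A.π := fun k => by
    rw [Category.assoc, pullback.lift_snd, Category.assoc]
  have : Flat cov :=
    MorphismProperty.pullbackMap (P := @Flat) ‹_› ‹_› A.π_s.symm A.π_t.symm
  have : Surjective cov :=
    MorphismProperty.pullbackMap (P := @Surjective) ‹_› ‹_› A.π_s.symm A.π_t.symm
  have : LocallyOfFinitePresentation cov :=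
    MorphismProperty.pullbackMap (P := @LocallyOfFinitePresentation) ‹_› ‹_› A.π_s.symm A.π_t.symm
  have hdesc : ∀ {Z : Scheme.{u}} (g₁ g₂ : Z ⟶ pullback (G.s ≫ D.q) (G.t ≫ D.q)),
      g₁ ≫ cov = g₂ ≫ cov → g₁ ≫ A.c₀ = g₂ ≫ A.c₀ := by
    intro Z g₁ g₂ h
    have hf := congr($h ≫ pullback.fst A.s A.t)
    have hs := congr($h ≫ pullback.snd A.s A.t)
    rw [hcf, hcf] at hf
    rw [hcs, hcs] at hs
    let fa (k : Z ⟶ pullback (G.s ≫ D.q) (G.t ≫ D.q)) :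
        (⟨(k ≫ pullback.fst _ _) ≫ G.s⟩ : Pt G Z) ⟶ ⟨(k ≫ pullback.fst _ _) ≫ G.t⟩ :=
      ⟨k ≫ pullback.fst _ _, rfl, rfl⟩
    let fb (k : Z ⟶ pullback (G.s ≫ D.q) (G.t ≫ D.q)) :
        (⟨(k ≫ pullback.snd _ _) ≫ G.s⟩ : Pt G Z) ⟶ ⟨(k ≫ pullback.snd _ _) ≫ G.t⟩ :=
      ⟨k ≫ pullback.snd _ _, rfl, rfl⟩
    have hk : ∀ k : Z ⟶ pullback (G.s ≫ D.q) (G.t ≫ D.q),
        (k ≫ pullback.fst _ _) ≫ G.s ≫ D.q = (k ≫ pullback.snd _ _) ≫ G.t ≫ D.q := fun k => by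
      simp only [Category.assoc, pullback.condition]
    have e : ∀ k, k = pullback.lift (fa k).r (fb k).r (hk k) := fun k => by
      apply pullback.hom_ext
      · exact (pullback.lift_fst _ _ _).symm
      · exact (pullback.lift_snd _ _ _).symm
    have hk' : ∀ k : Z ⟶ pullback (G.s ≫ D.q) (G.t ≫ D.q),
        (((k ≫ pullback.snd _ _) ≫ G.t)) ≫ D.q = ((k ≫ pullback.fst _ _) ≫ G.s) ≫ D.q := fun k => by
      simpa only [Category.assoc] using (hk k).symm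
    rw [e g₁, e g₂, A.c₀_eq (fb g₁) (fa g₁) (hk' g₁), A.c₀_eq (fb g₂) (fa g₂) (hk' g₂)]
    obtain ⟨hX, hY, ea⟩ := A.eq_tr (fa g₁) (fa g₂) hf
    obtain ⟨hX', hY', eb⟩ := A.eq_tr (fb g₁) (fb g₂) hs
    rw [ea, eb, ← A.hinv (fb g₁ ≫ D.ρ _ _ (hk' g₁) ≫ fa g₁) _ _ hX' hY]
    refine congrArg (fun x => Arr.r x ≫ A.π) ?_
    simp only [Sub.tr, Category.assoc, D.ρ_comp_assoc]
  refine ⟨EffectiveEpi.desc cov A.c₀ hdesc, ?_⟩
  intro T v w h a b hab ha hb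
  have hp : a ≫ G.s ≫ D.q = b ≫ G.t ≫ D.q := by rw [reassoc_of% hab]
  have : pullback.lift v w h = pullback.lift a b hp ≫ cov := by
    apply pullback.hom_ext
    · rw [pullback.lift_fst, hcf, pullback.lift_fst, ha]
    · rw [pullback.lift_snd, hcs, pullback.lift_snd, hb]
  rw [this, Category.assoc, EffectiveEpi.fac]
  let fa : (⟨a ≫ G.s⟩ : Pt G T) ⟶ ⟨a ≫ G.t⟩ := ⟨a, rfl, rfl⟩
  let fb : (⟨b ≫ G.s⟩ : Pt G T) ⟶ ⟨a ≫ G.s⟩ := ⟨b, rfl, hab.symm⟩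
  refine (A.c₀_eq fb fa rfl hp).trans ?_
  rw [D.ρ_self, Category.id_comp]
  rfl

include A in
/-- the quotient groupoid -/
theorem Arrows.exists_groupoid :
    ∃ (H : Grpd.GroupoidScheme S) (φ : Grpd.GroupoidScheme.Hom G H) (eU : H.U = D.M),
      φ.fU = D.q ≫ eqToHom eU.symm ∧ H.pU = eqToHom eU ≫ D.m ∧
      IsPullback φ.fR G.j H.j (pullback.map G.pU G.pU H.pU H.pU φ.fU φ.fU (𝟙 S)
        ((Category.comp_id _).trans φ.fU_over.symm) ((Category.comp_id _).trans φ.fU_over.symm)) := by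
  obtain ⟨_, _, _⟩ := A.π_props
  obtain ⟨c, hc⟩ := A.exists_c
  have hπe : Epi A.π := Flat.epi_of_flat_of_surjective _
  have hqe : Epi D.q := Flat.epi_of_flat_of_surjective _
  let e : D.M ⟶ A.W := EffectiveEpi.desc D.q (G.e ≫ A.π) fun {Z} g₁ g₂ h => by
    have h' : (⟨g₁⟩ : Pt G Z).x ≫ D.q = (⟨g₂⟩ : Pt G Z).x ≫ D.q := h
    have key := A.hinv (𝟙 (⟨g₁⟩ : Pt G Z)) ⟨g₂⟩ ⟨g₂⟩ h' h'
    rw [Sub.tr, Category.id_comp, D.ρ_comp, D.ρ_self, id_r, id_r] at key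
    simpa only [Category.assoc] using key.symm
  have he : D.q ≫ e = G.e ≫ A.π := EffectiveEpi.fac _ _ _
  let i : A.W ⟶ A.W := EffectiveEpi.desc A.π (G.i ≫ A.π) fun {Z} g₁ g₂ h => by
    let f₁ : (⟨g₁ ≫ G.s⟩ : Pt G Z) ⟶ ⟨g₁ ≫ G.t⟩ := ⟨g₁, rfl, rfl⟩
    let f₂ : (⟨g₂ ≫ G.s⟩ : Pt G Z) ⟶ ⟨g₂ ≫ G.t⟩ := ⟨g₂, rfl, rfl⟩
    obtain ⟨hX, hY, ef⟩ := A.eq_tr f₁ f₂ h
    have e2 : inv f₂ = D.tr (inv f₁) _ _ hY hX := by
      rw [ef]
      symm
      apply IsIso.eq_inv_of_hom_inv_id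
      simp only [Sub.tr, Category.assoc]
      rw [← Category.assoc (D.ρ _ _ hY), D.ρ_comp, D.ρ_self, Category.id_comp,
        IsIso.hom_inv_id_assoc, D.ρ_comp, D.ρ_self]
    have key := A.hinv (inv f₁) _ _ hY hX
    rw [← e2, inv_r, inv_r] at key
    simpa only [Category.assoc] using key.symm
  have hi : A.π ≫ i = G.i ≫ A.π := EffectiveEpi.fac _ _ _
  have hc' : ∀ {T' T : Scheme.{u}} (f : T' ⟶ T) (v w : T ⟶ A.W) (h : v ≫ A.s = w ≫ A.t)
      (a b : T' ⟶ G.R) (hab : a ≫ G.s = b ≫ G.t), a ≫ A.π = f ≫ v → b ≫ A.π = f ≫ w →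
      f ≫ pullback.lift v w h ≫ c = (pullback.lift a b hab ≫ G.c) ≫ A.π := by
    intro T' T f v w h a b hab ha hb
    rw [← Category.assoc, ← hc (f ≫ v) (f ≫ w) (by simp only [Category.assoc, h]) a b hab ha hb]
    congr 1
    apply pullback.hom_ext
    · erw [Category.assoc, pullback.lift_fst, pullback.lift_fst]
    · erw [Category.assoc, pullback.lift_snd, pullback.lift_snd]
  have hpb : ∀ {T : Scheme.{u}} (v : T ⟶ A.W), v ≫ A.s ≫ D.m = v ≫ A.t ≫ D.m := fun v => by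
    simp only [Arrows.s, Arrows.t, Category.assoc, pullback.condition]
  have hse : e ≫ A.s = 𝟙 D.M := by
    rw [← cancel_epi D.q, reassoc_of% he, A.π_s, reassoc_of% G.e_s, Category.comp_id]
  have hte : e ≫ A.t = 𝟙 D.M := by
    rw [← cancel_epi D.q, reassoc_of% he, A.π_t, reassoc_of% G.e_t, Category.comp_id]
  have his : i ≫ A.s = A.t := by
    rw [← cancel_epi A.π, reassoc_of% hi, A.π_s, reassoc_of% G.i_s, A.π_t]
  have hit : i ≫ A.t = A.s := by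
    rw [← cancel_epi A.π, reassoc_of% hi, A.π_t, reassoc_of% G.i_t, A.π_s]
  have hcs : ∀ {T : Scheme.{u}} (v w : T ⟶ A.W) (h : v ≫ A.s = w ≫ A.t),
      (pullback.lift v w h ≫ c) ≫ A.s = w ≫ A.s := fun v w h => by
    obtain ⟨T', f, _, a, b, ha, hb, hab⟩ := A.exists_lift₂ v w h
    rw [← cancel_epi f, ← Category.assoc f, hc' f v w h a b hab ha hb, Category.assoc,
      A.π_s, ← Category.assoc, G.comp_s, Category.assoc, ← A.π_s, reassoc_of% hb]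
  have hct : ∀ {T : Scheme.{u}} (v w : T ⟶ A.W) (h : v ≫ A.s = w ≫ A.t),
      (pullback.lift v w h ≫ c) ≫ A.t = v ≫ A.t := fun v w h => by
    obtain ⟨T', f, _, a, b, ha, hb, hab⟩ := A.exists_lift₂ v w h
    rw [← cancel_epi f, ← Category.assoc f, hc' f v w h a b hab ha hb, Category.assoc,
      A.π_t, ← Category.assoc, G.comp_t, Category.assoc, ← A.π_t, reassoc_of% ha]
  let H : Grpd.GroupoidScheme S :=
    { U := D.M
      R := A.W
      pU := D.m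
      pR := A.t ≫ D.m
      s := A.s
      t := A.t
      e := e
      i := i
      c := c
      s_over := by simpa only [Category.id_comp] using hpb (𝟙 A.W)
      t_over := rfl
      comp_s := hcs
      comp_t := hct
      assoc := fun {T} u v w h₁ h₂ => by
        obtain ⟨T₁, f₁, _, a, b, ha, hb, hab⟩ := A.exists_lift₂ u v h₁
        obtain ⟨T₂, f₂, _, z, hz⟩ := A.exists_lift (f₁ ≫ w)
        obtain ⟨z', hz', hzt⟩ := A.adjust z (f₂ ≫ b ≫ G.s) (by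
          rw [← A.π_t, reassoc_of% hz, ← h₂, ← reassoc_of% hb, A.π_s]
          simp only [Category.assoc])
        have hbz : (f₂ ≫ b) ≫ G.s = z' ≫ G.t := by rw [hzt, Category.assoc]
        have hab' : (f₂ ≫ a) ≫ G.s = (f₂ ≫ b) ≫ G.t := by simp only [Category.assoc, hab]
        have ha' : (f₂ ≫ a) ≫ A.π = (f₂ ≫ f₁) ≫ u := by simp only [Category.assoc, ha]
        have hb' : (f₂ ≫ b) ≫ A.π = (f₂ ≫ f₁) ≫ v := by simp only [Category.assoc, hb]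
        have hz'' : z' ≫ A.π = (f₂ ≫ f₁) ≫ w := by rw [hz', hz, Category.assoc]
        rw [← cancel_epi (f₂ ≫ f₁)]
        rw [hc' _ _ _ _ (pullback.lift (f₂ ≫ a) (f₂ ≫ b) hab' ≫ G.c) z'
            ((G.comp_s _ _ _).trans hbz) ((hc' _ u v h₁ _ _ hab' ha' hb').symm) hz'',
          hc' _ _ _ _ (f₂ ≫ a) (pullback.lift (f₂ ≫ b) z' hbz ≫ G.c)
            (hab'.trans (G.comp_t _ _ _).symm) ha' ((hc' _ v w h₂ _ _ hbz hb' hz'').symm),
          G.assoc]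
      e_s := hse
      e_t := hte
      comp_e := fun {T} v => by
        obtain ⟨T', f, _, a, ha⟩ := A.exists_lift v
        rw [← cancel_epi f, hc' f v _ _ a (a ≫ G.s ≫ G.e) (by simp [G.e_t]) ha (by
          simp only [Category.assoc, ← he, ← A.π_s_assoc, reassoc_of% ha]), G.comp_e, ha]
      e_comp := fun {T} v => by
        obtain ⟨T', f, _, a, ha⟩ := A.exists_lift v
        rw [← cancel_epi f, hc' f _ v _ (a ≫ G.t ≫ G.e) a (by simp [G.e_s]) (by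
          simp only [Category.assoc, ← he, ← A.π_t_assoc, reassoc_of% ha]) ha, G.e_comp, ha]
      i_s := his
      i_t := hit
      comp_i := fun {T} v => by
        obtain ⟨T', f, _, a, ha⟩ := A.exists_lift v
        rw [← cancel_epi f, hc' f v _ _ a (a ≫ G.i) (by simp [G.i_t]) ha (by
          rw [Category.assoc, ← hi, reassoc_of% ha]), G.comp_i]
        simp only [Category.assoc, ← he, ← A.π_t_assoc, reassoc_of% ha]
      i_comp := fun {T} v => by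
        obtain ⟨T', f, _, a, ha⟩ := A.exists_lift v
        rw [← cancel_epi f, hc' f _ v _ (a ≫ G.i) a (by simp [G.i_s]) (by
          rw [Category.assoc, ← hi, reassoc_of% ha]) ha, G.i_comp]
        simp only [Category.assoc, ← he, ← A.π_s_assoc, reassoc_of% ha] }
  let φ : Grpd.GroupoidScheme.Hom G H :=
    { fU := D.q
      fR := A.π
      fU_over := D.hm
      comm_s := A.π_s
      comm_t := A.π_t
      comm_c := fun α β h => (hc (α ≫ A.π) (β ≫ A.π) _ α β h rfl rfl).symm }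
  refine ⟨H, φ, rfl, (Category.comp_id _).symm, (Category.id_comp _).symm, ?_⟩
  have hj : H.j = A.g := by
    apply pullback.hom_ext
    · exact pullback.lift_fst _ _ _
    · exact pullback.lift_snd _ _ _
  change IsPullback A.π G.j H.j D.qq
  rw [hj]
  exact A.hpb

end Groth.Agent.SubQuot
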