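import Groth.Agent.Grpd.Inverse
import Mathlib.CategoryTheory.Groupoid

/-! # The groupoid of points of a groupoid scheme -/

universe u

open CategoryTheory CategoryTheory.Limits AlgebraicGeometry

namespace Groth.Agent.SubQuot

variable {S : Scheme.{u}} (G : Grpd.GroupoidScheme S) (T : Scheme.{u})

/-- The objects of the groupoid of `T`-points. -/
@[ext]
structure Pt where
  /-- the point -/
  x : T ⟶ G.U

variable {G T}

/-- Arrows of the groupoid of `T`-points. -/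
@[ext]
structure Arr (X Y : Pt G T) where
  /-- the arrow -/
  r : T ⟶ G.R
  hs : r ≫ G.s = X.x
  ht : r ≫ G.t = Y.x

noncomputable instance : Category (Pt G T) where
  Hom := Arr
  id X := ⟨X.x ≫ G.e, by rw [Category.assoc, G.e_s, Category.comp_id],
    by rw [Category.assoc, G.e_t, Category.comp_id]⟩
  comp f g := ⟨pullback.lift g.r f.r (g.hs.trans f.ht.symm) ≫ G.c,
    (G.comp_s _ _ _).trans f.hs, (G.comp_t _ _ _).trans g.ht⟩
  id_comp f := Arr.ext <| by
    refine (GrpdLib.comp_congr G rfl ?_ _ ?_).trans (G.comp_e f.r)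
    · exact (congrArg (· ≫ G.e) f.hs).symm.trans (Category.assoc _ _ _)
    · simp [G.e_t]
  comp_id f := Arr.ext <| by
    refine (GrpdLib.comp_congr G ?_ rfl _ ?_).trans (G.e_comp f.r)
    · exact (congrArg (· ≫ G.e) f.ht).symm.trans (Category.assoc _ _ _)
    · simp [G.e_s]
  assoc f g h := Arr.ext <| (G.assoc h.r g.r f.r (h.hs.trans g.ht.symm) (g.hs.trans f.ht.symm)).symm

lemma hom_ext' {X Y : Pt G T} {f g : X ⟶ Y} (h : f.r = g.r) : f = g := Arr.ext h

lemma comp_r {X Y Z : Pt G T} (f : X ⟶ Y) (g : Y ⟶ Z) :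
    (f ≫ g).r = pullback.lift g.r f.r (g.hs.trans f.ht.symm) ≫ G.c := rfl

lemma comp_r_congr {X Y Z X' Y' Z' : Pt G T} {f : X ⟶ Y} {g : Y ⟶ Z} {f' : X' ⟶ Y'} {g' : Y' ⟶ Z'}
    (hf : f.r = f'.r) (hg : g.r = g'.r) : (f ≫ g).r = (f' ≫ g').r :=
  GrpdLib.comp_congr G hg hf _ _

lemma id_r (X : Pt G T) : Arr.r (𝟙 X) = X.x ≫ G.e := rfl

noncomputable instance : Groupoid (Pt G T) where
  inv f := ⟨f.r ≫ G.i, by rw [Category.assoc, G.i_s, f.ht], by rw [Category.assoc, G.i_t, f.hs]⟩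
  inv_comp f := Arr.ext <| by
    rw [comp_r, id_r]
    exact (G.comp_i f.r).trans ((Category.assoc _ _ _).symm.trans (congrArg (· ≫ G.e) f.ht))
  comp_inv f := Arr.ext <| by
    rw [comp_r, id_r]
    exact (G.i_comp f.r).trans ((Category.assoc _ _ _).symm.trans (congrArg (· ≫ G.e) f.hs))

lemma inv_r {X Y : Pt G T} (f : X ⟶ Y) : (inv f).r = f.r ≫ G.i := by
  rw [← Groupoid.inv_eq_inv]; rfl

/-- pull back an arrow -/
@[simps]
def pull {T' : Scheme.{u}} (k : T' ⟶ T) {X Y : Pt G T} (f : X ⟶ Y) :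
    (⟨k ≫ X.x⟩ : Pt G T') ⟶ ⟨k ≫ Y.x⟩ :=
  ⟨k ≫ f.r, by rw [Category.assoc, f.hs], by rw [Category.assoc, f.ht]⟩

lemma pull_comp {T' : Scheme.{u}} (k : T' ⟶ T) {X Y Z : Pt G T} (f : X ⟶ Y) (g : Y ⟶ Z) :
    pull k (f ≫ g) = pull k f ≫ pull k g := Arr.ext <| by
  change k ≫ pullback.lift g.r f.r _ ≫ G.c = pullback.lift (k ≫ g.r) (k ≫ f.r) _ ≫ G.c
  rw [← Category.assoc]
  congr 1
  apply pullback.hom_ext
  · exact (Category.assoc _ _ _).trans ((congrArg (k ≫ ·) (pullback.lift_fst _ _ _)).trans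
      (pullback.lift_fst _ _ _).symm)
  · exact (Category.assoc _ _ _).trans ((congrArg (k ≫ ·) (pullback.lift_snd _ _ _)).trans
      (pullback.lift_snd _ _ _).symm)

end Groth.Agent.SubQuot
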