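import Groth.Agent.SchDescent.IndQAEff
import Groth.Agent.SchDescent.Glue

/-! # The scheme descended from a datum relative to one covering morphism -/

universe u

open CategoryTheory CategoryTheory.Limits AlgebraicGeometry

namespace Groth.Agent.SubQuot

/-- An ind-quasi-affine descent datum relative to one covering morphism comes with a cartesian map. -/
theorem exists_descent {A B : Scheme.{u}} (p : A ⟶ B)
    (hp : Presieve.singleton p ∈ Scheme.fpqcPrecoverage B)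
    (D : Desc.SchDDFam (fun _ : PUnit.{u + 1} => p))
    (hD : MoreMor.IsIndQuasiAffineHom (D.obj ⟨⟩).hom) :
    ∃ (W : Scheme.{u}) (g : W ⟶ B) (π : (D.obj ⟨⟩).left ⟶ W),
      IsPullback π (D.obj ⟨⟩).hom g p ∧
      ∀ ⦃T : Scheme.{u}⦄ (x₀ x₁ : T ⟶ A) (h : x₀ ≫ p = x₁ ≫ p)
        (v : Desc.Lifts (D.obj ⟨⟩) x₀), (D.φ (i := ⟨⟩) (j := ⟨⟩) x₀ x₁ h v).1 ≫ π = v.1 ≫ π := by
  obtain ⟨U, ⟨e⟩⟩ := SchDescent.effective_of_indQA (fun _ : PUnit.{u + 1} => p)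
    (SchDescent.mem_fpqc_singleton hp) D fun _ => hD
  let f : pullback p U.hom ⟶ (D.obj ⟨⟩).left := (e.hom.hom ⟨⟩).left
  let g : (D.obj ⟨⟩).left ⟶ pullback p U.hom := (e.inv.hom ⟨⟩).left
  have hfg : f ≫ g = 𝟙 _ := congr(((Desc.SchDDFam.Hom.hom $(e.hom_inv_id)) ⟨⟩).left)
  have hgf : g ≫ f = 𝟙 _ := congr(((Desc.SchDDFam.Hom.hom $(e.inv_hom_id)) ⟨⟩).left)
  have hg : g ≫ pullback.fst p U.hom = (D.obj ⟨⟩).hom := Over.w (e.inv.hom ⟨⟩)
  let i : (D.obj ⟨⟩).left ≅ pullback p U.hom := ⟨g, f, hgf, hfg⟩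
  refine ⟨U.left, U.hom, g ≫ pullback.snd p U.hom, ?_, fun T x₀ x₁ h v => ?_⟩
  · exact (IsPullback.of_hasPullback p U.hom).flip.of_iso i.symm (Iso.refl _) (Iso.refl _)
      (Iso.refl _) (by simp [i, reassoc_of% hfg]) (by simp [i, ← hg, reassoc_of% hfg]) (by simp)
      (by simp)
  · let w : Desc.Lifts ((Desc.canonicalDDFam (fun _ : PUnit.{u + 1} => p) U).obj ⟨⟩) x₀ :=
      Desc.SchDDFam.Hom.push e.inv (i := (⟨⟩ : PUnit.{u + 1})) v
    have key : pullback.lift x₁ (w.1 ≫ pullback.snd p U.hom) _ =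
        (D.φ (i := ⟨⟩) (j := ⟨⟩) x₀ x₁ h v).1 ≫ g :=
      e.inv.comm (i := ⟨⟩) (j := ⟨⟩) x₀ x₁ h v w rfl
    have := congr($key ≫ pullback.snd p U.hom)
    rw [pullback.lift_snd, Category.assoc] at this
    exact this.symm.trans (Category.assoc _ _ _)

end Groth.Agent.SubQuot
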