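import Groth.Agent.Grpd.SubQuot.Arr
import Groth.Agent.Grpd.SubQuot.Desc
import Groth.Agent.Grpd.SheafQuot

/-! # Transport of arrows along a subrelation -/

universe u

open CategoryTheory CategoryTheory.Limits AlgebraicGeometry

namespace Groth.Agent.SubQuot

variable {S : Scheme.{u}} (G : Grpd.GroupoidScheme S)

/-- A subgroupoid which is the kernel pair of a map from the objects. -/
structure Sub where
  /-- arrows -/
  P : Scheme.{u}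
  /-- the inclusion -/
  ι : P ⟶ G.R
  /-- the quotient -/
  M : Scheme.{u}
  /-- the quotient map -/
  q : G.U ⟶ M
  /-- its map to the base -/
  m : M ⟶ S
  hm : q ≫ m = G.pU
  hker : IsPullback (ι ≫ G.t) (ι ≫ G.s) q q
  /-- units -/
  eP : G.U ⟶ P
  he : eP ≫ ι = G.e
  /-- composition -/
  cP : pullback (ι ≫ G.s) (ι ≫ G.t) ⟶ P
  hc : cP ≫ ι = pullback.map (ι ≫ G.s) (ι ≫ G.t) G.s G.t ι ι (𝟙 G.U) (Category.comp_id _)
    (Category.comp_id _) ≫ G.c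

variable {G} (D : Sub G) {T : Scheme.{u}}

/-- The arrow of the subrelation between two related points. -/
noncomputable def Sub.ρ (X Y : Pt G T) (h : X.x ≫ D.q = Y.x ≫ D.q) : X ⟶ Y :=
  ⟨D.hker.lift Y.x X.x h.symm ≫ D.ι, by rw [Category.assoc, D.hker.lift_snd],
    by rw [Category.assoc, D.hker.lift_fst]⟩

lemma Sub.ρ_self (X : Pt G T) : D.ρ X X rfl = 𝟙 X := by
  apply hom_ext'
  change D.hker.lift X.x X.x rfl ≫ D.ι = X.x ≫ G.e
  have : D.hker.lift X.x X.x rfl = X.x ≫ D.eP := by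
    apply D.hker.hom_ext
    · rw [D.hker.lift_fst, Category.assoc, reassoc_of% D.he, G.e_t, Category.comp_id]
    · rw [D.hker.lift_snd, Category.assoc, reassoc_of% D.he, G.e_s, Category.comp_id]
  rw [this, Category.assoc, D.he]

@[reassoc]
lemma Sub.ρ_comp (X Y Z : Pt G T) (h : X.x ≫ D.q = Y.x ≫ D.q) (h' : Y.x ≫ D.q = Z.x ≫ D.q) :
    D.ρ X Y h ≫ D.ρ Y Z h' = D.ρ X Z (h.trans h') := by
  apply hom_ext'
  rw [comp_r]
  let a := D.hker.lift Z.x Y.x h'.symm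
  let b := D.hker.lift Y.x X.x h.symm
  have hab : a ≫ D.ι ≫ G.s = b ≫ D.ι ≫ G.t := by rw [D.hker.lift_snd, D.hker.lift_fst]
  let p := pullback.lift a b hab ≫ D.cP
  have hp : p ≫ D.ι = pullback.lift (a ≫ D.ι) (b ≫ D.ι)
      (by rw [Category.assoc, Category.assoc]; exact hab) ≫ G.c := by
    rw [Category.assoc, D.hc, ← Category.assoc]
    congr 1
    apply pullback.hom_ext
    · erw [Category.assoc, pullback.lift_fst, pullback.lift_fst_assoc, pullback.lift_fst]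
    · erw [Category.assoc, pullback.lift_snd, pullback.lift_snd_assoc, pullback.lift_snd]
  have : p = D.hker.lift Z.x X.x (h.trans h').symm := by
    apply D.hker.hom_ext
    · rw [D.hker.lift_fst, ← Category.assoc, hp, G.comp_t, Category.assoc, D.hker.lift_fst]
    · rw [D.hker.lift_snd, ← Category.assoc, hp, G.comp_s, Category.assoc, D.hker.lift_snd]
  change pullback.lift (a ≫ D.ι) (b ≫ D.ι) _ ≫ G.c = _
  rw [← hp, this]
  rfl

lemma Sub.pull_ρ {T' : Scheme.{u}} (k : T' ⟶ T) (X Y : Pt G T) (h : X.x ≫ D.q = Y.x ≫ D.q) :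
    pull k (D.ρ X Y h) = D.ρ ⟨k ≫ X.x⟩ ⟨k ≫ Y.x⟩
      (by simp only [Category.assoc, h]) := by
  apply hom_ext'
  change k ≫ D.hker.lift Y.x X.x h.symm ≫ D.ι = D.hker.lift (k ≫ Y.x) (k ≫ X.x) _ ≫ D.ι
  rw [← Category.assoc]
  congr 1
  apply D.hker.hom_ext <;> simp

lemma Sub.ρ_r_congr {X Y X' Y' : Pt G T} {h h'} (hX : X.x = X'.x) (hY : Y.x = Y'.x) :
    (D.ρ X Y h).r = (D.ρ X' Y' h').r := by
  obtain rfl : X = X' := Pt.ext hX
  obtain rfl : Y = Y' := Pt.ext hY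
  rfl

/-- transport of an arrow to related endpoints -/
noncomputable def Sub.tr {X Y : Pt G T} (f : X ⟶ Y) (X' Y' : Pt G T)
    (hX : X.x ≫ D.q = X'.x ≫ D.q) (hY : Y.x ≫ D.q = Y'.x ≫ D.q) : X' ⟶ Y' :=
  D.ρ X' X hX.symm ≫ f ≫ D.ρ Y Y' hY

lemma Sub.tr_self {X Y : Pt G T} (f : X ⟶ Y) : D.tr f X Y rfl rfl = f := by
  rw [Sub.tr, D.ρ_self, D.ρ_self, Category.id_comp, Category.comp_id]

lemma Sub.tr_tr {X Y : Pt G T} (f : X ⟶ Y) (X' Y' X'' Y'' : Pt G T)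
    (hX : X.x ≫ D.q = X'.x ≫ D.q) (hY : Y.x ≫ D.q = Y'.x ≫ D.q)
    (hX' : X'.x ≫ D.q = X''.x ≫ D.q) (hY' : Y'.x ≫ D.q = Y''.x ≫ D.q) :
    D.tr (D.tr f X' Y' hX hY) X'' Y'' hX' hY' = D.tr f X'' Y'' (hX.trans hX') (hY.trans hY') := by
  simp only [Sub.tr, Category.assoc, D.ρ_comp]
  rw [← Category.assoc, D.ρ_comp]

lemma Sub.pull_tr {T' : Scheme.{u}} (k : T' ⟶ T) {X Y : Pt G T} (f : X ⟶ Y) (X' Y' : Pt G T)
    (hX : X.x ≫ D.q = X'.x ≫ D.q) (hY : Y.x ≫ D.q = Y'.x ≫ D.q) :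
    pull k (D.tr f X' Y' hX hY) = D.tr (pull k f) ⟨k ≫ X'.x⟩ ⟨k ≫ Y'.x⟩
      (by simp only [Category.assoc, hX]) (by simp only [Category.assoc, hY]) := by
  simp only [Sub.tr, pull_comp, D.pull_ρ]

/-- the map on pairs of objects -/
noncomputable abbrev Sub.qq : pullback G.pU G.pU ⟶ pullback D.m D.m :=
  pullback.map G.pU G.pU D.m D.m D.q D.q (𝟙 S) ((Category.comp_id _).trans D.hm.symm)
    ((Category.comp_id _).trans D.hm.symm)

@[reassoc]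
lemma Sub.qq_fst : D.qq ≫ pullback.fst D.m D.m = pullback.fst G.pU G.pU ≫ D.q :=
  pullback.lift_fst _ _ _

@[reassoc]
lemma Sub.qq_snd : D.qq ≫ pullback.snd D.m D.m = pullback.snd G.pU G.pU ≫ D.q :=
  pullback.lift_snd _ _ _

lemma Sub.qq_eq {x₀ x₁ : T ⟶ pullback G.pU G.pU} (h : x₀ ≫ D.qq = x₁ ≫ D.qq) :
    (x₀ ≫ pullback.fst _ _) ≫ D.q = (x₁ ≫ pullback.fst _ _) ≫ D.q ∧
    (x₀ ≫ pullback.snd _ _) ≫ D.q = (x₁ ≫ pullback.snd _ _) ≫ D.q := by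
  constructor
  · simpa only [Category.assoc, D.qq_fst] using congr($h ≫ pullback.fst D.m D.m)
  · simpa only [Category.assoc, D.qq_snd] using congr($h ≫ pullback.snd D.m D.m)

/-- the arrow of a lift -/
noncomputable def toArr {x : T ⟶ pullback G.pU G.pU} (v : Desc.Lifts (Over.mk G.j) x) :
    (⟨x ≫ pullback.snd _ _⟩ : Pt G T) ⟶ ⟨x ≫ pullback.fst _ _⟩ :=
  ⟨v.1,
    (congrArg (v.1 ≫ ·) (pullback.lift_snd _ _ _)).symm.trans ((Category.assoc _ _ _).symm.trans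
      (congrArg (· ≫ pullback.snd _ _) v.2)),
    (congrArg (v.1 ≫ ·) (pullback.lift_fst _ _ _)).symm.trans ((Category.assoc _ _ _).symm.trans
      (congrArg (· ≫ pullback.fst _ _) v.2))⟩

lemma r_comp_j {X Y : Pt G T} (f : X ⟶ Y) (x : T ⟶ pullback G.pU G.pU)
    (h₁ : x ≫ pullback.fst _ _ = Y.x) (h₂ : x ≫ pullback.snd _ _ = X.x) : f.r ≫ G.j = x := by
  apply pullback.hom_ext
  · rw [Category.assoc, Grpd.GroupoidScheme.j, pullback.lift_fst, f.ht, h₁]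
  · rw [Category.assoc, Grpd.GroupoidScheme.j, pullback.lift_snd, f.hs, h₂]

/-- transport of lifts -/
noncomputable def Sub.trLift (x₀ x₁ : T ⟶ pullback G.pU G.pU) (h : x₀ ≫ D.qq = x₁ ≫ D.qq)
    (v : Desc.Lifts (Over.mk G.j) x₀) : Desc.Lifts (Over.mk G.j) x₁ :=
  ⟨(D.tr (toArr v) ⟨x₁ ≫ pullback.snd _ _⟩ ⟨x₁ ≫ pullback.fst _ _⟩ (D.qq_eq h).2 (D.qq_eq h).1).r,
    r_comp_j _ _ rfl rfl⟩

lemma Sub.trLift_self (x : T ⟶ pullback G.pU G.pU) (v : Desc.Lifts (Over.mk G.j) x) :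
    D.trLift x x rfl v = v :=
  Subtype.ext (congrArg Arr.r (D.tr_self (toArr v)))

lemma Sub.trLift_comp (x₀ x₁ x₂ : T ⟶ pullback G.pU G.pU) (h : x₀ ≫ D.qq = x₁ ≫ D.qq)
    (h' : x₁ ≫ D.qq = x₂ ≫ D.qq) (v : Desc.Lifts (Over.mk G.j) x₀) :
    D.trLift x₁ x₂ h' (D.trLift x₀ x₁ h v) = D.trLift x₀ x₂ (h.trans h') v :=
  Subtype.ext (congrArg Arr.r (D.tr_tr (toArr v) ⟨x₁ ≫ pullback.snd _ _⟩ ⟨x₁ ≫ pullback.fst _ _⟩
    ⟨x₂ ≫ pullback.snd _ _⟩ ⟨x₂ ≫ pullback.fst _ _⟩ (D.qq_eq h).2 (D.qq_eq h).1 (D.qq_eq h').2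
    (D.qq_eq h').1))

lemma Sub.tr_r_congr {X Y X₂ Y₂ X' Y' X₂' Y₂' : Pt G T} (f : X ⟶ Y) (f₂ : X₂ ⟶ Y₂) {hX hY hX₂ hY₂}
    (hf : f.r = f₂.r) (hX' : X'.x = X₂'.x) (hY' : Y'.x = Y₂'.x) :
    (D.tr f X' Y' hX hY).r = (D.tr f₂ X₂' Y₂' hX₂ hY₂).r := by
  obtain rfl : X' = X₂' := Pt.ext hX'
  obtain rfl : Y' = Y₂' := Pt.ext hY'
  obtain rfl : X = X₂ := Pt.ext (by rw [← f.hs, hf, f₂.hs])
  obtain rfl : Y = Y₂ := Pt.ext (by rw [← f.ht, hf, f₂.ht])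
  obtain rfl : f = f₂ := hom_ext' hf
  rfl

/-- the datum -/
noncomputable def Sub.datum : Desc.SchDDFam (fun _ : PUnit.{u + 1} => D.qq) where
  obj _ := Over.mk G.j
  φ T _ _ x₀ x₁ h :=
    { toFun := D.trLift x₀ x₁ h
      invFun := D.trLift x₁ x₀ h.symm
      left_inv := fun v => (D.trLift_comp _ _ _ h h.symm v).trans (D.trLift_self _ v)
      right_inv := fun v => (D.trLift_comp _ _ _ h.symm h v).trans (D.trLift_self _ v) }
  φ_natural T T' g i j x₀ x₁ h y₀ y₁ hy₀ hy₁ h' v v' hv' := by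
    subst hy₀ hy₁
    change (D.tr (toArr v') ⟨(g ≫ x₁) ≫ pullback.snd _ _⟩ ⟨(g ≫ x₁) ≫ pullback.fst _ _⟩
      (D.qq_eq h').2 (D.qq_eq h').1).r = (pull g (D.tr (toArr v) ⟨x₁ ≫ pullback.snd _ _⟩
        ⟨x₁ ≫ pullback.fst _ _⟩ (D.qq_eq h).2 (D.qq_eq h).1)).r
    rw [D.pull_tr]
    exact D.tr_r_congr _ _ hv' (Category.assoc _ _ _) (Category.assoc _ _ _)
  φ_self T i x v := D.trLift_self x v
  φ_comp T i j k x₀ x₁ x₂ h h' v := D.trLift_comp x₀ x₁ x₂ h h' v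

/-- The arrows descend to the pairs of points of the quotient. -/
theorem Sub.exists_arrows [IsSeparated G.j] [LocallyQuasiFinite G.j] [LocallyOfFiniteType G.j]
    (hD : MoreMor.IsIndQuasiAffineHom G.j) [Flat D.q] [Surjective D.q] [QuasiCompact D.q] :
    ∃ (W : Scheme.{u}) (g : W ⟶ pullback D.m D.m) (π : G.R ⟶ W),
      IsPullback π G.j g D.qq ∧
      ∀ ⦃T : Scheme.{u}⦄ {X Y : Pt G T} (f : X ⟶ Y) (X' Y' : Pt G T)
        (hX : X.x ≫ D.q = X'.x ≫ D.q) (hY : Y.x ≫ D.q = Y'.x ≫ D.q),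
        (D.tr f X' Y' hX hY).r ≫ π = f.r ≫ π := by
  have h1 : Flat D.qq := MorphismProperty.pullbackMap (P := @Flat) ‹_› ‹_› D.hm.symm D.hm.symm
  have h2 : Surjective D.qq := MorphismProperty.pullbackMap (P := @Surjective) ‹_› ‹_› D.hm.symm D.hm.symm
  have h3 : QuasiCompact D.qq := MorphismProperty.pullbackMap (P := @QuasiCompact) ‹_› ‹_› D.hm.symm D.hm.symm
  obtain ⟨W, g, π, hpb, hinv⟩ := exists_descent D.qq D.qq.singleton_mem_fpqcPrecoverage D.datum hD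
  refine ⟨W, g, π, hpb, fun T X Y f X' Y' hX hY => ?_⟩
  have hw : ∀ {A B : Pt G T} (_ : A ⟶ B), B.x ≫ G.pU = A.x ≫ G.pU := fun f => by
    rw [← f.ht, ← f.hs, Category.assoc, Category.assoc, G.t_over, G.s_over]
  let x₀ := pullback.lift Y.x X.x (hw f)
  let x₁ := pullback.lift Y'.x X'.x (hw (D.tr f X' Y' hX hY))
  have h : x₀ ≫ D.qq = x₁ ≫ D.qq := by
    apply pullback.hom_ext
    · simpa only [x₀, x₁, Category.assoc, D.qq_fst, pullback.lift_fst_assoc] using hY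
    · simpa only [x₀, x₁, Category.assoc, D.qq_snd, pullback.lift_snd_assoc] using hX
  let v : Desc.Lifts (Over.mk G.j) x₀ :=
    ⟨f.r, r_comp_j f x₀ (pullback.lift_fst _ _ _) (pullback.lift_snd _ _ _)⟩
  refine Eq.trans ?_ (hinv x₀ x₁ h v)
  refine congrArg (· ≫ π) ?_
  exact D.tr_r_congr (hX₂ := (D.qq_eq h).2) (hY₂ := (D.qq_eq h).1) f (toArr v) rfl (pullback.lift_snd _ _ _).symm (pullback.lift_fst _ _ _).symm

end Groth.Agent.SubQuot
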